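import Mathlib
import Cfsg.Agent.H895.Count

/-!
# S5731: transitive groups with a short subdegree, imprimitive groups

* `Bd G Ω` : the number of derangements is at least `(√n + 1) / (2 n) |G|`;
* `bd_of_subdegree` : a subdegree `m` of two different points with `(m + 1) ^ 2 ≤ n` suffices;
* `bd_of_block` : transitive groups with a nontrivial block.
-/

set_option autoImplicit false

namespace Cfsg.Agent.H692.Dr

open MulAction Finset Cfsg.Agent.H895
open scoped Pointwise

/-- the bound of S5731 -/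
def Bd (G Ω : Type*) [Group G] [MulAction G Ω] : Prop :=
  (Real.sqrt (Nat.card Ω) + 1) / (2 * Nat.card Ω) * (Nat.card G : ℝ) ≤
    Nat.card {g : G // ∀ ω : Ω, g • ω ≠ ω}

section

variable {G Ω : Type*} [Group G] [Fintype G] [MulAction G Ω] [Fintype Ω]

omit [Fintype G] in
theorem two_le_card_orbits {α β : Ω} (hαβ : α ≠ β) : 2 ≤ Nat.card (orbitRel.Quotient G (Ω × Ω)) := by
  have h1 : 1 < Nat.card (orbitRel.Quotient G (Ω × Ω)) := by
    rw [Finite.one_lt_card_iff_nontrivial]
    refine ⟨Quotient.mk'' (α, α), Quotient.mk'' (α, β), ?_⟩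
    intro h
    have h2 : orbitRel G (Ω × Ω) (α, α) (α, β) := Quotient.exact' h
    rw [orbitRel_apply] at h2
    obtain ⟨g, hg⟩ := h2
    have h3 : (g • α, g • β) = (α, α) := hg
    rw [Prod.mk.injEq] at h3
    exact hαβ (smul_left_cancel g (h3.1.trans h3.2.symm))
  exact h1

/-- transitive groups: the number of derangements is at least `|G| / n` -/
theorem card_le_mul_derange (htr : IsPretransitive G Ω) (hn : 2 ≤ Fintype.card Ω) :
    Nat.card G ≤ Fintype.card Ω * Nat.card {g : G // ∀ ω : Ω, g • ω ≠ ω} := by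
  classical
  have hne : Nonempty Ω := Fintype.card_pos_iff.1 (by omega)
  obtain ⟨α, β, hαβ⟩ := Fintype.exists_pair_of_one_lt_card (α := Ω) (by omega)
  have h1 := cameron_cohen (G := G) (Ω := Ω) htr
  have h2 := two_le_card_orbits (G := G) hαβ
  have h3 : (0 : ℤ) ≤ ∑ g ∈ univ.filter (fun g : G => ¬ (fixF Ω g).card = 0),
      (((fixF Ω g).card : ℤ) - 1) * ((Fintype.card Ω : ℤ) - (fixF Ω g).card) := by
    refine Finset.sum_nonneg fun g hg => ?_
    rw [Finset.mem_filter] at hg
    have h4 := fixF_card_le (Ω := Ω) g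
    have h5 : 1 ≤ (fixF Ω g).card := Nat.one_le_iff_ne_zero.2 hg.2
    refine mul_nonneg ?_ ?_
    · have : (1 : ℤ) ≤ (fixF Ω g).card := by exact_mod_cast h5
      linarith
    · have : ((fixF Ω g).card : ℤ) ≤ Fintype.card Ω := by exact_mod_cast h4
      linarith
  rw [natCard_derange]
  have h6 : (1 : ℤ) * Nat.card G ≤ ((Nat.card (orbitRel.Quotient G (Ω × Ω)) : ℤ) - 1) * Nat.card G := by
    refine mul_le_mul_of_nonneg_right ?_ (by positivity)
    have : (2 : ℤ) ≤ Nat.card (orbitRel.Quotient G (Ω × Ω)) := by exact_mod_cast h2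
    linarith
  have h7 : (Nat.card G : ℤ) ≤ (Fintype.card Ω : ℤ) * (univ.filter (fun g : G => (fixF Ω g).card = 0)).card := by
    rw [h1]; linarith
  exact_mod_cast h7

/-- the points of a pair of suborbit length `m`: `m ∑_{f ≥ 2} f ≥ |G|` -/
theorem card_le_sum_two (htr : IsPretransitive G Ω) {α β : Ω} (hαβ : α ≠ β) :
    Fintype.card Ω * Nat.card (stabilizer G α ⊓ stabilizer G β : Subgroup G) ≤
      ∑ g ∈ univ.filter (fun g : G => 2 ≤ (fixF Ω g).card), (fixF Ω g).card := by
  classical
  -- choose conjugating elements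
  have hx : ∀ ω : Ω, ∃ x : G, x • α = ω := fun ω => htr.exists_smul_eq α ω
  choose x hx using hx
  have h1 : ∑ g ∈ univ.filter (fun g : G => 2 ≤ (fixF Ω g).card), (fixF Ω g).card =
      ((univ : Finset (G × Ω)).filter (fun q => 2 ≤ (fixF Ω q.1).card ∧ q.1 • q.2 = q.2)).card := by
    rw [Finset.sum_filter, ← Finset.univ_product_univ, Finset.card_filter, Finset.sum_product]
    refine Finset.sum_congr rfl fun g _ => ?_
    by_cases h : 2 ≤ (fixF Ω g).card
    · rw [if_pos h]
      rw [fixF, Finset.card_filter]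
      refine Finset.sum_congr rfl fun ω _ => ?_
      by_cases h' : g • ω = ω
      · rw [if_pos h', if_pos ⟨h, h'⟩]
      · rw [if_neg h', if_neg (fun h2 => h' h2.2)]
    · rw [if_neg h]
      symm
      refine Finset.sum_eq_zero fun ω _ => ?_
      rw [if_neg (fun h2 => h h2.1)]
  rw [h1]
  have h2 : Fintype.card Ω * Nat.card (stabilizer G α ⊓ stabilizer G β : Subgroup G) =
      Nat.card (Ω × (stabilizer G α ⊓ stabilizer G β : Subgroup G)) := by
    rw [Nat.card_prod, Nat.card_eq_fintype_card (α := Ω)]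
  rw [h2, ← Fintype.card_coe, ← Nat.card_eq_fintype_card]
  refine Nat.card_le_card_of_injective (fun q => ⟨(x q.1 * (q.2 : G) * (x q.1)⁻¹, q.1), ?_⟩) ?_
  · obtain ⟨ω, k, hk1, hk2⟩ := q
    have hk1' : k • α = α := hk1
    have hk2' : k • β = β := hk2
    rw [Finset.mem_filter]
    refine ⟨Finset.mem_univ _, ?_, ?_⟩
    · have e1 : (x ω * k * (x ω)⁻¹) • ω = ω := by
        rw [mul_smul, inv_smul_eq_iff.2 (hx ω).symm, mul_smul, hk1', hx]
      have e2 : (x ω * k * (x ω)⁻¹) • (x ω • β) = x ω • β := by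
        rw [mul_smul, inv_smul_smul, mul_smul, hk2']
      have e3 : ω ≠ x ω • β := by
        intro h
        rw [← hx ω, hx ω] at h
        have : x ω • α = x ω • β := (hx ω).trans h
        exact hαβ (smul_left_cancel _ this)
      show 2 ≤ (fixF Ω (x ω * k * (x ω)⁻¹)).card
      rw [← Finset.card_pair e3]
      refine Finset.card_le_card ?_
      intro y hy
      rw [Finset.mem_insert, Finset.mem_singleton] at hy
      rw [mem_fixF]
      rcases hy with rfl | rfl
      · exact e1
      · exact e2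
    · show (x ω * k * (x ω)⁻¹) • ω = ω
      rw [mul_smul, inv_smul_eq_iff.2 (hx ω).symm, mul_smul, hk1', hx]
  · rintro ⟨ω, k⟩ ⟨ω', k'⟩ h
    simp only [Subtype.mk.injEq, Prod.mk.injEq] at h
    obtain ⟨h3, h4⟩ := h
    subst h4
    have h5 : (k : G) = k' := mul_left_cancel (mul_right_cancel h3)
    rw [Prod.mk.injEq]
    exact ⟨rfl, Subtype.ext h5⟩

theorem real_ineq {n k m s : ℝ} (hs : n = s ^ 2) (hk : 1 ≤ k) (hm : 1 ≤ m) (hms : m + 1 ≤ s) :
    (s + 1) * (n - 1) * (k * m) ≤ n * k * m + (n - 2) * (n * k - 1) := by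
  subst hs
  have h1 : 2 ≤ s := by linarith
  have h2 : 0 ≤ (s - 1 - m) * (s ^ 2 * s - s - 1) := by
    refine mul_nonneg (by linarith) ?_
    nlinarith
  have h3 : 0 ≤ k * ((s - 1 - m) * (s ^ 2 * s - s - 1)) := mul_nonneg (by linarith) h2
  have h4 : 0 ≤ (k - 1) * (s ^ 2 * (s - 1) - 1) := by
    refine mul_nonneg (by linarith) ?_
    nlinarith
  nlinarith

/-- **a short subdegree** -/
theorem bd_of_subdegree [FaithfulSMul G Ω] (htr : IsPretransitive G Ω) {α β : Ω} (hαβ : α ≠ β)
    (hm : (Nat.card (orbit (stabilizer G α) β) + 1) ^ 2 ≤ Nat.card Ω) : Bd G Ω := by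
  classical
  set m := Nat.card (orbit (stabilizer G α) β) with hmdef
  set K : Subgroup G := stabilizer G α ⊓ stabilizer G β with hK
  have hne : Nonempty Ω := ⟨α⟩
  have hm1 : 1 ≤ m := by
    have : Nonempty (orbit (stabilizer G α) β) := ⟨⟨β, mem_orbit_self β⟩⟩
    exact Nat.card_pos
  have hn4 : 4 ≤ Nat.card Ω := le_trans (by nlinarith) hm
  -- orders
  have c1 : Nat.card Ω * Nat.card (stabilizer G α) = Nat.card G := by
    have h1 := MulAction.card_orbit_mul_card_stabilizer_eq_card_group G α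
    have h2 : orbit G α = Set.univ := MulAction.orbit_eq_univ G α
    simp only [← Nat.card_eq_fintype_card] at h1
    rw [h2] at h1
    rw [← h1, Nat.card_univ]
  have c2 : m * Nat.card K = Nat.card (stabilizer G α) := by
    have h1 := MulAction.card_orbit_mul_card_stabilizer_eq_card_group (stabilizer G α) β
    simp only [← Nat.card_eq_fintype_card] at h1
    rw [← h1, hmdef]
    congr 1
    refine Nat.card_congr ⟨fun x => ⟨⟨x.1, x.2.1⟩, x.2.2⟩, fun x => ⟨x.1.1, x.1.2, x.2⟩, fun _ => rfl, fun _ => rfl⟩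
  have hG : (Nat.card G : ℝ) = Nat.card Ω * (Nat.card K * m) := by
    rw [← c1, ← c2]; push_cast; ring
  have hK1 : 1 ≤ Nat.card K := Nat.card_pos
  -- the numbers
  set D := (univ.filter (fun g : G => (fixF Ω g).card = 0)).card with hD
  set A := (univ.filter (fun g : G => (fixF Ω g).card = 1)).card with hA
  set B := (univ.filter (fun g : G => 2 ≤ (fixF Ω g).card)).card with hB
  have s1 : D + A + B = Nat.card G := by
    rw [Nat.card_eq_fintype_card, ← Finset.card_univ, hD, hA, hB,
      ← Finset.card_union_of_disjoint, ← Finset.card_union_of_disjoint]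
    · congr 1
      ext g
      simp only [Finset.mem_union, Finset.mem_filter, Finset.mem_univ, true_and, iff_true]
      omega
    · rw [Finset.disjoint_left]
      intro g hg hg'
      simp only [Finset.mem_union, Finset.mem_filter, Finset.mem_univ, true_and] at hg hg'
      omega
    · rw [Finset.disjoint_left]
      intro g hg hg'
      simp only [Finset.mem_filter, Finset.mem_univ, true_and] at hg hg'
      omega
  have s2 : A + ∑ g ∈ univ.filter (fun g : G => 2 ≤ (fixF Ω g).card), (fixF Ω g).card = Nat.card G := by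
    rw [← sum_fix (G := G) htr, hA, Finset.card_filter, Finset.sum_filter, ← Finset.sum_add_distrib]
    refine Finset.sum_congr rfl fun g _ => ?_
    by_cases h0 : (fixF Ω g).card = 1
    · rw [if_pos h0, if_neg (by omega), h0, add_zero]
    · by_cases h1 : 2 ≤ (fixF Ω g).card
      · rw [if_neg h0, if_pos h1]; omega
      · rw [if_neg h0, if_neg h1]; omega
  have s3 := card_le_sum_two (G := G) htr hαβ
  rw [← hK] at s3
  have s4 : Nat.card Ω * Nat.card K ≤ B + D := by
    rw [← Nat.card_eq_fintype_card] at s3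
    omega
  -- the sum
  have s5 : (Nat.card Ω - 2 : ℤ) * ((B : ℤ) - 1) ≤ ∑ g ∈ univ.filter (fun g : G => ¬ (fixF Ω g).card = 0),
      (((fixF Ω g).card : ℤ) - 1) * ((Fintype.card Ω : ℤ) - (fixF Ω g).card) := by
    have h1 : ∀ g ∈ univ.filter (fun g : G => ¬ (fixF Ω g).card = 0),
        (if 2 ≤ (fixF Ω g).card ∧ g ≠ 1 then (Nat.card Ω - 2 : ℤ) else 0) ≤
          (((fixF Ω g).card : ℤ) - 1) * ((Fintype.card Ω : ℤ) - (fixF Ω g).card) := by
      intro g hg
      rw [Finset.mem_filter] at hg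
      have h4 := fixF_card_le (Ω := Ω) g
      have h4' : ((fixF Ω g).card : ℤ) ≤ Fintype.card Ω := by exact_mod_cast h4
      have h5 : 1 ≤ (fixF Ω g).card := Nat.one_le_iff_ne_zero.2 hg.2
      have h5' : (1 : ℤ) ≤ (fixF Ω g).card := by exact_mod_cast h5
      split_ifs with h
      · obtain ⟨h6, h7⟩ := h
        have h6' : (2 : ℤ) ≤ (fixF Ω g).card := by exact_mod_cast h6
        have h8 : (fixF Ω g).card < Fintype.card Ω := by
          refine lt_of_le_of_ne h4 fun h9 => h7 ?_
          have h10 : fixF Ω g = Finset.univ := Finset.eq_univ_of_card _ h9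
          refine FaithfulSMul.eq_of_smul_eq_smul (α := Ω) fun ω => ?_
          rw [one_smul, ← mem_fixF, h10]
          exact Finset.mem_univ _
        have h8' : ((fixF Ω g).card : ℤ) + 1 ≤ Fintype.card Ω := by exact_mod_cast h8
        rw [Nat.card_eq_fintype_card]
        nlinarith
      · exact mul_nonneg (by linarith) (by linarith)
    refine le_trans ?_ (Finset.sum_le_sum h1)
    rw [← Finset.sum_filter, Finset.sum_const, nsmul_eq_mul, mul_comm]
    refine mul_le_mul_of_nonneg_right ?_ (by omega)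
    have h2 : B ≤ ((univ.filter (fun g : G => ¬ (fixF Ω g).card = 0)).filter
        (fun g : G => 2 ≤ (fixF Ω g).card ∧ g ≠ 1)).card + 1 := by
      rw [hB]
      refine le_trans (Finset.card_le_card (t := insert 1 ((univ.filter (fun g : G => ¬ (fixF Ω g).card = 0)).filter
        (fun g : G => 2 ≤ (fixF Ω g).card ∧ g ≠ 1))) ?_) (Finset.card_insert_le _ _)
      intro g hg
      rw [Finset.mem_insert]
      by_cases hg1 : g = 1
      · left; exact hg1
      · right
        rw [Finset.mem_filter] at hg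
        rw [Finset.mem_filter, Finset.mem_filter]
        exact ⟨⟨Finset.mem_univ _, by omega⟩, hg.2, hg1⟩
    have h3 : (B : ℤ) ≤ (((univ.filter (fun g : G => ¬ (fixF Ω g).card = 0)).filter
        (fun g : G => 2 ≤ (fixF Ω g).card ∧ g ≠ 1)).card : ℤ) + 1 := by exact_mod_cast h2
    linarith
  have s6 := cameron_cohen (G := G) (Ω := Ω) htr
  have s7 := two_le_card_orbits (G := G) hαβ
  rw [← hD] at s6
  have s8 : (1 : ℤ) * Nat.card G ≤ ((Nat.card (orbitRel.Quotient G (Ω × Ω)) : ℤ) - 1) * Nat.card G := by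
    refine mul_le_mul_of_nonneg_right ?_ (by positivity)
    have : (2 : ℤ) ≤ Nat.card (orbitRel.Quotient G (Ω × Ω)) := by exact_mod_cast s7
    linarith
  rw [← Nat.card_eq_fintype_card (α := Ω)] at s6 s5
  have s9 : (Nat.card G : ℤ) + (Nat.card Ω - 2 : ℤ) * ((Nat.card Ω * Nat.card K : ℤ) - D - 1) ≤
      Nat.card Ω * D := by
    have h1 : (Nat.card Ω * Nat.card K : ℤ) ≤ B + D := by exact_mod_cast s4
    have h2 : (Nat.card Ω - 2 : ℤ) * ((Nat.card Ω * Nat.card K : ℤ) - D - 1) ≤ (Nat.card Ω - 2 : ℤ) * ((B : ℤ) - 1) := by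
      refine mul_le_mul_of_nonneg_left (by linarith) ?_
      have : (4 : ℤ) ≤ Nat.card Ω := by exact_mod_cast hn4
      linarith
    rw [s6]
    linarith
  have s10 : (Nat.card G : ℝ) + (Nat.card Ω - 2 : ℝ) * ((Nat.card Ω * Nat.card K : ℝ) - D - 1) ≤
      Nat.card Ω * D := by exact_mod_cast s9
  -- finish
  have hs0 : (0 : ℝ) ≤ Nat.card Ω := by positivity
  have hsq : (Nat.card Ω : ℝ) = Real.sqrt (Nat.card Ω) ^ 2 := (Real.sq_sqrt hs0).symm
  have hms : (m : ℝ) + 1 ≤ Real.sqrt (Nat.card Ω) := by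
    refine Real.le_sqrt_of_sq_le ?_
    exact_mod_cast hm
  have hk1 : (1 : ℝ) ≤ Nat.card K := by exact_mod_cast hK1
  have hm1' : (1 : ℝ) ≤ m := by exact_mod_cast hm1
  have key := real_ineq hsq hk1 hm1' hms
  unfold Bd
  rw [natCard_derange, ← hD]
  have hn0 : (4 : ℝ) ≤ Nat.card Ω := by exact_mod_cast hn4
  rw [hG] at s10 ⊢
  rw [div_mul_eq_mul_div, div_le_iff₀ (by positivity)]
  have e1 : (2 * (Nat.card Ω - 1) : ℝ) * ((Real.sqrt (Nat.card Ω) + 1) * (Nat.card Ω * (Nat.card K * m))) ≤
      (2 * (Nat.card Ω - 1) : ℝ) * (D * (2 * Nat.card Ω)) := by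
    nlinarith
  exact le_of_mul_le_mul_left e1 (by linarith)

theorem le_inv_sqrt {n : ℝ} (hn : 1 ≤ n) {D g b : ℝ} (hb : 0 < b) (hg : 0 ≤ g) (hbn : b ^ 2 ≤ n) (h : g ≤ b * D) :
    (Real.sqrt n + 1) / (2 * n) * g ≤ D := by
  set s := Real.sqrt n with hs
  have hsq : n = s ^ 2 := (Real.sq_sqrt (by linarith)).symm
  have hs1 : 1 ≤ s := Real.one_le_sqrt.2 hn
  have hbs : b ≤ s := Real.le_sqrt_of_sq_le hbn
  rw [div_mul_eq_mul_div, div_le_iff₀ (by linarith)]
  have hD : 0 ≤ D := by
    by_contra hneg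
    push Not at hneg
    nlinarith
  have h1 : g ≤ s * D := le_trans h (mul_le_mul_of_nonneg_right hbs hD)
  rw [hsq]
  have h2 : (s + 1) * g ≤ (s + 1) * (s * D) := mul_le_mul_of_nonneg_left h1 (by linarith)
  have h3 : 0 ≤ (s - 1) * (s * D) := mul_nonneg (by linarith) (mul_nonneg (by linarith) hD)
  nlinarith

/-- **transitive groups with a nontrivial block** -/
theorem bd_of_block [FaithfulSMul G Ω] (htr : IsPretransitive G Ω) {B : Set Ω} (hB : IsBlock G B)
    (hB1 : B.Nontrivial) (hB2 : B ≠ Set.univ) : Bd G Ω := by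
  classical
  obtain ⟨α, hα, β, hβ, hαβ⟩ := hB1
  have hBne : B.Nonempty := ⟨α, hα⟩
  have h1 := hB.ncard_block_mul_ncard_orbit_eq hBne
  set b := Set.ncard (orbit G B) with hb
  have hfin : (orbit G B).Finite := Set.toFinite _
  -- the action on the blocks
  have : Fintype (orbit G B) := Fintype.ofFinite _
  have hbcard : b = Fintype.card (orbit G B) := by
    rw [hb, ← Nat.card_eq_fintype_card, Nat.card_coe_set_eq]
  have hb0 : 0 < b := by
    rw [hbcard, Fintype.card_pos_iff]
    exact ⟨⟨B, mem_orbit_self B⟩⟩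
  have hn0 : 0 < Nat.card Ω := Nat.card_pos_iff.2 ⟨⟨α⟩, inferInstance⟩
  by_cases hbn : b ^ 2 ≤ Nat.card Ω
  · have hb2 : 2 ≤ b := by
      by_contra hlt
      have hb1 : b = 1 := by omega
      rw [hb1, mul_one] at h1
      refine hB2 (Set.eq_of_subset_of_ncard_le (Set.subset_univ _) ?_ (Set.toFinite _))
      rw [Set.ncard_univ, h1]
    have h2 : IsPretransitive G (orbit G B) := inferInstance
    have h3 := card_le_mul_derange (G := G) (Ω := orbit G B) h2 (by omega)
    have h4 : Nat.card {g : G // ∀ ω : orbit G B, g • ω ≠ ω} ≤ Nat.card {g : G // ∀ ω : Ω, g • ω ≠ ω} := by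
      refine Nat.card_le_card_of_injective (fun g => ⟨g.1, fun ω hω => ?_⟩) ?_
      · -- ω lies in some translate
        obtain ⟨x, hx⟩ := htr.exists_smul_eq α ω
        have h5 : g.1 • (x • B) = x • B := by
          have h6 : IsBlock G (x • B) := hB.translate x
          refine h6.smul_eq_of_mem (a := ω) ?_ ?_
          · rw [← hx]; exact Set.smul_mem_smul_set hα
          · rw [hω, ← hx]; exact Set.smul_mem_smul_set hα
        exact g.2 ⟨x • B, mem_orbit B x⟩ (Subtype.ext h5)
      · intro g g' h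
        exact Subtype.ext (congrArg (fun z => z.1) h)
    have h5 : Nat.card G ≤ b * Nat.card {g : G // ∀ ω : Ω, g • ω ≠ ω} := by
      rw [hbcard]
      exact le_trans h3 (Nat.mul_le_mul_left _ h4)
    unfold Bd
    refine le_inv_sqrt (b := b) ?_ ?_ ?_ ?_ ?_
    · exact_mod_cast hn0
    · exact_mod_cast hb0
    · positivity
    · exact_mod_cast hbn
    · exact_mod_cast h5
  · refine bd_of_subdegree htr hαβ ?_
    have h2 : (orbit (stabilizer G α) β) ⊆ B \ {α} := by
      rintro _ ⟨⟨k, hk⟩, rfl⟩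
      have hk' : k • α = α := hk
      refine ⟨?_, ?_⟩
      · have h3 : k • B = B := hB.smul_eq_of_mem hα (by rw [hk']; exact hα)
        show k • β ∈ B
        rw [← h3]
        exact Set.smul_mem_smul_set hβ
      · intro h3
        have h4 : k • β = α := h3
        rw [← hk'] at h4
        exact hαβ (smul_left_cancel k h4).symm
    have h3 : Nat.card (orbit (stabilizer G α) β) + 1 ≤ Set.ncard B := by
      rw [Nat.card_coe_set_eq]
      have h4 := Set.ncard_le_ncard h2 (Set.toFinite _)
      rw [Set.ncard_sdiff_singleton_of_mem hα] at h4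
      have h5 : 0 < Set.ncard B := (Set.ncard_pos (Set.toFinite _)).2 hBne
      omega
    have h4 : Set.ncard B ^ 2 ≤ Nat.card Ω := by
      push Not at hbn
      by_contra h5
      push Not at h5
      rw [← h1] at hbn h5
      have h6 : Set.ncard B < b := by nlinarith
      have h7 : b < Set.ncard B := by nlinarith
      omega
    exact le_trans (Nat.pow_le_pow_left h3 2) h4

end

end Cfsg.Agent.H692.Dr
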