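import Mathlib
import Cfsg.Agent.H192.Af.Defs
import Cfsg.Agent.H692.Dr.Count

/-!
# S5731: primitive groups with an abelian normal subgroup

`bd_of_affine` : a primitive group with a nontrivial abelian normal subgroup is `V ⋊ H`; the number of derangements
is `n ∑ (1 - 1 / c(h))`.
-/

set_option autoImplicit false
set_option linter.style.haveILetI false

namespace Cfsg.Agent.H692.Dr

open MulAction Finset Cfsg.Agent.H192.Af
open scoped Pointwise

universe u v

section reg

variable {G : Type u} {Ω : Type v} [Group G] [Finite G] [MulAction G Ω]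

/-- a regular normal elementary abelian subgroup -/
theorem exists_regular [FaithfulSMul G Ω] (hprim : IsPreprimitive G Ω)
    (hab : ∃ N : Subgroup G, N.Normal ∧ IsMulCommutative N ∧ N ≠ ⊥) :
    ∃ (p : ℕ) (N : Subgroup G), p.Prime ∧ N.Normal ∧ (∀ x ∈ N, ∀ y ∈ N, x * y = y * x) ∧ (∀ x ∈ N, x ^ p = 1) ∧
      N ≠ ⊥ ∧ IsPretransitive N Ω := by
  obtain ⟨N, hN, hc, hne⟩ := hab
  have hcomm : ∀ x ∈ N, ∀ y ∈ N, x * y = y * x := fun x hx y hy =>
    congrArg Subtype.val (hc.is_comm.comm (⟨x, hx⟩ : N) ⟨y, hy⟩)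
  have h1 : Nat.card N ≠ 1 := fun h => hne (Subgroup.card_eq_one.1 h)
  obtain ⟨p, hp, hpd⟩ := Nat.exists_prime_and_dvd h1
  have : Fact p.Prime := ⟨hp⟩
  let N1 : Subgroup G :=
    { carrier := {x | x ∈ N ∧ x ^ p = 1}
      one_mem' := ⟨N.one_mem, one_pow p⟩
      mul_mem' := by
        rintro a b ⟨ha, ha'⟩ ⟨hb, hb'⟩
        exact ⟨N.mul_mem ha hb, by rw [Commute.mul_pow (show Commute a b from hcomm a ha b hb), ha', hb', one_mul]⟩
      inv_mem' := by
        rintro a ⟨ha, ha'⟩
        exact ⟨N.inv_mem ha, by rw [inv_pow, ha', inv_one]⟩ }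
  have hN1 : N1.Normal := by
    refine ⟨fun x hx g => ⟨hN.conj_mem x hx.1 g, ?_⟩⟩
    rw [conj_pow, hx.2, mul_one, mul_inv_cancel]
  have hne1 : N1 ≠ ⊥ := by
    obtain ⟨x, hx⟩ := exists_prime_orderOf_dvd_card' (G := N) p hpd
    intro h
    have h2 : (x : G) ∈ N1 := ⟨x.2, by rw [← Subgroup.coe_pow, ← hx, pow_orderOf_eq_one, Subgroup.coe_one]⟩
    rw [h, Subgroup.mem_bot] at h2
    have h3 : x = 1 := Subtype.ext h2
    rw [h3, orderOf_one] at hx
    exact hp.one_lt.ne hx
  refine ⟨p, N1, hp, hN1, fun x hx y hy => hcomm x hx.1 y hy.1, fun x hx => hx.2, hne1, ?_⟩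
  refine IsQuasiPreprimitive.isPretransitive_of_normal (G := G) (X := Ω) (N := N1) ?_
  intro htop
  refine hne1 ((Subgroup.eq_bot_iff_forall _).2 fun x hx => ?_)
  refine FaithfulSMul.eq_of_smul_eq_smul (α := Ω) fun ω => ?_
  have h2 : ω ∈ fixedPoints N1 Ω := by rw [htop]; trivial
  rw [one_smul]
  exact h2 ⟨x, hx⟩

end reg

section aff

variable {G : Type u} {Ω : Type v} [Group G] [MulAction G Ω]

/-- the commutative group structure -/
@[reducible] def commN (N : Subgroup G) (hcomm : ∀ x ∈ N, ∀ y ∈ N, x * y = y * x) : CommGroup N :=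
  { (inferInstance : Group N) with mul_comm := fun a b => Subtype.ext (hcomm a a.2 b b.2) }

/-- conjugation of a subgroup `K` on a normal abelian subgroup `N`, written additively -/
@[reducible] def conjA (N : Subgroup G) [N.Normal] (hcomm : ∀ x ∈ N, ∀ y ∈ N, x * y = y * x) (K : Subgroup G) :
    letI := commN N hcomm; DistribMulAction K (Additive N) :=
  letI := commN N hcomm
  { smul := fun k x => Additive.ofMul (MulAut.conjNormal (k : G) (Additive.toMul x))
    one_smul := fun x => by
      show Additive.ofMul (MulAut.conjNormal ((1 : K) : G) (Additive.toMul x)) = x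
      rw [Subgroup.coe_one, map_one, MulAut.one_apply]; rfl
    mul_smul := fun a b x => by
      show Additive.ofMul (MulAut.conjNormal ((a * b : K) : G) (Additive.toMul x)) =
        Additive.ofMul (MulAut.conjNormal (a : G) (MulAut.conjNormal (b : G) (Additive.toMul x)))
      rw [Subgroup.coe_mul, map_mul, MulAut.mul_apply]
    smul_zero := fun a => by
      show Additive.ofMul (MulAut.conjNormal (a : G) 1) = 0
      rw [map_one]; rfl
    smul_add := fun a x y => by
      show Additive.ofMul (MulAut.conjNormal (a : G) (Additive.toMul x * Additive.toMul y)) =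
        Additive.ofMul (MulAut.conjNormal (a : G) (Additive.toMul x) * MulAut.conjNormal (a : G) (Additive.toMul y))
      rw [map_mul] }

theorem coe_smul (N : Subgroup G) [N.Normal] (hcomm : ∀ x ∈ N, ∀ y ∈ N, x * y = y * x) (K : Subgroup G) (k : K)
    (x : Additive N) :
    letI := commN N hcomm; letI := conjA N hcomm K
    ((Additive.toMul (k • x) : N) : G) = k * ((Additive.toMul x : N) : G) * (k : G)⁻¹ := rfl

/-- the elements `x` of `V` for which `x h` has a fixed point -/
theorem card_range_mul_fixc {V : Type u} [AddCommGroup V] [Finite V] {H : Type v} [Group H] [DistribMulAction H V]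
    (h : H) : Nat.card {x : V // ∃ u : V, u - h • u = x} * fixc V h = Nat.card V := by
  let φ : V →+ V :=
    { toFun := fun u => u - h • u
      map_zero' := by rw [smul_zero, sub_zero]
      map_add' := fun a b => by rw [smul_add]; abel }
  have h1 : Nat.card {x : V // ∃ u : V, u - h • u = x} = Nat.card φ.range :=
    Nat.card_congr ⟨fun x => ⟨x.1, x.2⟩, fun x => ⟨x.1, x.2⟩, fun _ => rfl, fun _ => rfl⟩
  have h2 : fixc V h = Nat.card φ.ker := by
    unfold fixc
    refine Nat.card_congr ⟨fun x => ⟨x.1, ?_⟩, fun x => ⟨x.1, ?_⟩, fun _ => rfl, fun _ => rfl⟩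
    · rw [AddMonoidHom.mem_ker]
      show x.1 - h • x.1 = 0
      rw [x.2, sub_self]
    · have h3 : x.1 - h • x.1 = 0 := x.2
      exact (sub_eq_zero.1 h3).symm
  rw [h1, h2]
  have h3 := AddSubgroup.card_eq_card_quotient_mul_card_addSubgroup φ.ker
  rw [h3]
  congr 1
  exact (Nat.card_congr (QuotientAddGroup.quotientKerEquivRange φ).toEquiv).symm

/-- **the number of derangements of `V ⋊ H`** -/
theorem card_derange_affine [Finite G] [Finite Ω] (N : Subgroup G) [N.Normal]
    (hcomm : ∀ x ∈ N, ∀ y ∈ N, x * y = y * x) (htr : IsPretransitive N Ω)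
    (α : Ω) (hreg : ∀ x ∈ N, x • α = α → x = 1) (H : Subgroup G) (hH : ∀ g : G, g ∈ H ↔ g • α = α) :
    letI := commN N hcomm; letI := conjA N hcomm H
    Nat.card G = Nat.card N * Nat.card H ∧ Nat.card N = Nat.card Ω ∧
    (Nat.card {g : G // ∀ ω : Ω, g • ω ≠ ω} : ℝ) =
      Nat.card N * ∑ᶠ h : H, (1 - 1 / (fixc (Additive N) h : ℝ)) := by
  letI := commN N hcomm
  letI := conjA N hcomm H
  have hHα : ∀ h : H, (h : G) • α = α := fun h => (hH h).1 h.2
  have hexN : ∀ ω : Ω, ∃ x : N, (x : G) • α = ω := fun ω => htr.exists_smul_eq α ω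
  -- the decomposition
  have hinj : Function.Injective (fun q : N × H => (q.1 : G) * (q.2 : G)) := by
    rintro ⟨x, h⟩ ⟨x', h'⟩ hq
    have hq' : (x : G) * h = x' * h' := hq
    have h1 : ((x'⁻¹ * x : N) : G) • α = α := by
      have h2 : ((x'⁻¹ * x : N) : G) = (h' : G) * (h : G)⁻¹ := by
        rw [Subgroup.coe_mul, Subgroup.coe_inv, eq_mul_inv_iff_mul_eq, mul_assoc, hq', inv_mul_cancel_left]
      rw [h2, mul_smul, inv_smul_eq_iff.2 (hHα h).symm]
      exact hHα h'
    have h3 := hreg _ (x'⁻¹ * x).2 h1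
    have h4 : x = x' := by
      have h5 : x'⁻¹ * x = 1 := Subtype.ext h3
      rw [inv_mul_eq_one] at h5
      exact h5.symm
    subst h4
    have h6 : (h : G) = h' := mul_left_cancel hq'
    rw [Prod.mk.injEq]
    exact ⟨rfl, Subtype.ext h6⟩
  have hsurj : Function.Surjective (fun q : N × H => (q.1 : G) * (q.2 : G)) := by
    intro g
    obtain ⟨x, hx⟩ := hexN (g • α)
    refine ⟨(x, ⟨(x : G)⁻¹ * g, (hH _).2 ?_⟩), ?_⟩
    · rw [mul_smul, ← hx, inv_smul_smul]
    · show (x : G) * ((x : G)⁻¹ * g) = g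
      rw [mul_inv_cancel_left]
  let e : N × H ≃ G := Equiv.ofBijective _ ⟨hinj, hsurj⟩
  have hN : Nat.card N = Nat.card Ω := by
    refine Nat.card_congr (Equiv.ofBijective (fun x : N => (x : G) • α) ⟨?_, fun ω => hexN ω⟩)
    intro x x' h
    have h' : (x : G) • α = (x' : G) • α := h
    have h1 : ((x'⁻¹ * x : N) : G) • α = α := by
      rw [Subgroup.coe_mul, Subgroup.coe_inv, mul_smul, h', inv_smul_smul]
    have h3 := hreg _ (x'⁻¹ * x).2 h1
    have h5 : x'⁻¹ * x = 1 := Subtype.ext h3
    rw [inv_mul_eq_one] at h5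
    exact h5.symm
  refine ⟨by rw [← Nat.card_congr e, Nat.card_prod], hN, ?_⟩
  -- fixed points of x h
  have hfix : ∀ (x : N) (h : H), (∃ ω : Ω, ((x : G) * (h : G)) • ω = ω) ↔
      ∃ u : Additive N, u - h • u = Additive.ofMul x := by
    intro x h
    have hα : (h : G) • α = α := hHα h
    have hcs : ∀ u : Additive N, ((Additive.toMul (h • u) : N) : G) = h * ((Additive.toMul u : N) : G) * (h : G)⁻¹ :=
      fun u => rfl
    constructor
    · rintro ⟨ω, hω⟩
      obtain ⟨u, hu⟩ := hexN ω
      refine ⟨Additive.ofMul u, ?_⟩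
      have h1 : ((u⁻¹ * (x * Additive.toMul (h • Additive.ofMul u)) : N) : G) • α = α := by
        have h2 : ((u⁻¹ * (x * Additive.toMul (h • Additive.ofMul u)) : N) : G) =
            (u : G)⁻¹ * ((x : G) * ((h : G) * (u : G) * (h : G)⁻¹)) := by
          rw [Subgroup.coe_mul, Subgroup.coe_inv, Subgroup.coe_mul, hcs]; rfl
        have h3 : (h : G)⁻¹ • α = α := by rw [inv_smul_eq_iff, hα]
        have hω' : (x : G) • (h : G) • ω = ω := by rw [← mul_smul]; exact hω
        rw [h2]
        simp only [mul_smul]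
        rw [h3, hu, hω', ← hu, inv_smul_smul]
      have h4 := hreg _ (u⁻¹ * (x * Additive.toMul (h • Additive.ofMul u))).2 h1
      have h5 : u⁻¹ * (x * Additive.toMul (h • Additive.ofMul u)) = 1 := Subtype.ext h4
      rw [inv_mul_eq_one] at h5
      rw [sub_eq_iff_eq_add]
      exact congrArg Additive.ofMul h5
    · rintro ⟨u, hu⟩
      rw [sub_eq_iff_eq_add] at hu
      have h5 : Additive.toMul u = x * Additive.toMul (h • u) := congrArg Additive.toMul hu
      have h6 : ((Additive.toMul u : N) : G) = (x : G) * ((h : G) * ((Additive.toMul u : N) : G) * (h : G)⁻¹) := by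
        have h7 := congrArg Subtype.val h5
        rw [Subgroup.coe_mul, hcs] at h7
        exact h7
      refine ⟨((Additive.toMul u : N) : G) • α, ?_⟩
      have h3 : (h : G)⁻¹ • α = α := by rw [inv_smul_eq_iff, hα]
      conv_rhs => rw [h6]
      simp only [mul_smul]
      rw [h3]
  -- counting
  have hcount : ∀ h : H, Nat.card {x : N // ¬ ∃ ω : Ω, ((x : G) * (h : G)) • ω = ω} + Nat.card {x : Additive N // ∃ u, u - h • u = x} =
      Nat.card N := by
    intro h
    have h1 : Nat.card {x : Additive N // ∃ u, u - h • u = x} = Nat.card {x : N // ∃ ω : Ω, ((x : G) * (h : G)) • ω = ω} := by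
      refine Nat.card_congr (Equiv.subtypeEquiv Additive.toMul ?_)
      intro x
      rw [hfix]
      rfl
    rw [h1, add_comm]
    classical
    have h2 := Nat.card_congr (Equiv.sumCompl (fun x : N => ∃ ω : Ω, ((x : G) * (h : G)) • ω = ω))
    rw [Nat.card_sum] at h2
    exact h2
  have hreal : ∀ h : H, (Nat.card {x : N // ¬ ∃ ω : Ω, ((x : G) * (h : G)) • ω = ω} : ℝ) =
      Nat.card N * (1 - 1 / (fixc (Additive N) h : ℝ)) := by
    intro h
    have h1 := hcount h
    have h2 := card_range_mul_fixc (V := Additive N) h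
    have h3 : Nat.card (Additive N) = Nat.card N := rfl
    have h4 : 0 < fixc (Additive N) h := by
      have : Nonempty {w : Additive N // h • w = w} := ⟨⟨0, smul_zero h⟩⟩
      exact Nat.card_pos
    have h5 : (0 : ℝ) < fixc (Additive N) h := by exact_mod_cast h4
    have h6 : (Nat.card {x : Additive N // ∃ u, u - h • u = x} : ℝ) = Nat.card N / fixc (Additive N) h := by
      rw [eq_div_iff h5.ne', ← h3, ← h2]; push_cast; ring
    have h7 : (Nat.card {x : N // ¬ ∃ ω : Ω, ((x : G) * (h : G)) • ω = ω} : ℝ) +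
        Nat.card {x : Additive N // ∃ u, u - h • u = x} = Nat.card N := by exact_mod_cast h1
    rw [mul_sub, mul_one, mul_one_div, ← h6]
    linarith
  have hsum : Nat.card {g : G // ∀ ω : Ω, g • ω ≠ ω} =
      ∑ᶠ h : H, Nat.card {x : N // ¬ ∃ ω : Ω, ((x : G) * (h : G)) • ω = ω} := by
    classical
    have : Fintype H := Fintype.ofFinite _
    rw [finsum_eq_sum_of_fintype]
    have h1 : Nat.card {g : G // ∀ ω : Ω, g • ω ≠ ω} =
        Nat.card (Σ h : H, {x : N // ¬ ∃ ω : Ω, ((x : G) * (h : G)) • ω = ω}) := by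
      refine Nat.card_congr ?_
      refine Equiv.trans (Equiv.subtypeEquiv e.symm (q := fun q => ¬ ∃ ω : Ω, ((q.1 : G) * (q.2 : G)) • ω = ω) ?_) ?_
      · intro g
        have h2 : ((e.symm g).1 : G) * ((e.symm g).2 : G) = g := e.apply_symm_apply g
        rw [h2]
        push Not
        rfl
      · exact ⟨fun q => ⟨q.1.2, ⟨q.1.1, q.2⟩⟩, fun q => ⟨(q.2.1, q.1), q.2.2⟩, fun _ => rfl, fun _ => rfl⟩
    rw [h1, Nat.card_sigma]
  rw [hsum]
  have : Fintype H := Fintype.ofFinite _
  rw [finsum_eq_sum_of_fintype, finsum_eq_sum_of_fintype]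
  push_cast
  rw [Finset.mul_sum]
  exact Finset.sum_congr rfl fun h _ => hreal h

end aff

end Cfsg.Agent.H692.Dr
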