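import Mathlib
import Cfsg.Agent.H692.Dr.Aff

/-!
# S5731 from its affine part and S5734

* `AffHyp` : the target `Tgt V H` for large irreducible non-Frobenius affine groups;
* `bd_of_affine` : primitive groups with an abelian normal subgroup;
* `top` : `AffHyp` and the statement of S5734 imply the statement of S5731.
-/

set_option autoImplicit false
set_option linter.style.haveILetI false

namespace Cfsg.Agent.H692.Dr

open MulAction Finset Cfsg.Agent.H192.Af
open scoped Pointwise

universe u v w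

/-- the affine part of S5731 -/
def AffHyp : Prop :=
  ∃ N : ℕ, ∀ (p : ℕ) (V : Type u) [AddCommGroup V] [Finite V] (H : Type v) [Group H] [Finite H]
    [DistribMulAction H V] [FaithfulSMul H V], p.Prime → (∀ w : V, p • w = 0) →
    (∀ U : AddSubgroup V, (∀ (h : H), ∀ w ∈ U, h • w ∈ U) → U = ⊥ ∨ U = ⊤) → N ≤ Nat.card V →
    (∃ h : H, h ≠ 1 ∧ fixc V h ≠ 1) → Tgt V H

theorem transitive_of_normal {G : Type u} {Ω : Type v} [Group G] [MulAction G Ω] [FaithfulSMul G Ω]
    (hprim : IsPreprimitive G Ω) (N : Subgroup G) [N.Normal] (hne : N ≠ ⊥) : IsPretransitive N Ω := by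
  refine IsQuasiPreprimitive.isPretransitive_of_normal (G := G) (X := Ω) (N := N) ?_
  intro htop
  refine hne ((Subgroup.eq_bot_iff_forall _).2 fun x hx => ?_)
  refine FaithfulSMul.eq_of_smul_eq_smul (α := Ω) fun ω => ?_
  have h2 : ω ∈ fixedPoints N Ω := by rw [htop]; trivial
  rw [one_smul]
  exact h2 ⟨x, hx⟩

theorem bd_of_affine (hA : AffHyp.{u, u}) : ∃ N : ℕ, ∀ (G : Type u) (Ω : Type v) [Group G] [Finite G]
    [MulAction G Ω] [FaithfulSMul G Ω] [Fintype Ω], IsPreprimitive G Ω →
    (∃ M : Subgroup G, M.Normal ∧ IsMulCommutative M ∧ M ≠ ⊥) → N ≤ Nat.card Ω →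
    ¬ ((∃ g : G, g ≠ 1 ∧ ∃ ω : Ω, g • ω = ω) ∧ ∀ g : G, g ≠ 1 → Nat.card (fixedBy Ω g) ≤ 1) → Bd G Ω := by
  obtain ⟨N, hN⟩ := hA
  refine ⟨max N 4, fun G Ω _ _ _ _ _ hprim hab hcard hfrob => ?_⟩
  have hn4 : 4 ≤ Nat.card Ω := le_trans (le_max_right _ _) hcard
  have hnN : N ≤ Nat.card Ω := le_trans (le_max_left _ _) hcard
  obtain ⟨p, M, hp, hM, hcomm, hexp, hne, htr⟩ := exists_regular hprim hab
  have hΩ : Nonempty Ω := (Nat.card_pos_iff.1 (by omega : 0 < Nat.card Ω)).1
  obtain ⟨α⟩ := hΩ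
  have hexN : ∀ ω : Ω, ∃ x : M, (x : G) • α = ω := fun ω => htr.exists_smul_eq α ω
  have hreg : ∀ x ∈ M, x • α = α → x = 1 := by
    intro x hx hxα
    refine FaithfulSMul.eq_of_smul_eq_smul (α := Ω) fun ω => ?_
    obtain ⟨y, hy⟩ := hexN ω
    rw [one_smul, ← hy, ← mul_smul, hcomm x hx y y.2, mul_smul, hxα]
  letI := commN M hcomm
  letI := conjA M hcomm (stabilizer G α)
  obtain ⟨c1, c2, c3⟩ := card_derange_affine M hcomm htr α hreg (stabilizer G α) (fun g => Iff.rfl)
  have hcs : ∀ (h : stabilizer G α) (u : Additive M),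
      ((Additive.toMul (h • u) : M) : G) = h * ((Additive.toMul u : M) : G) * (h : G)⁻¹ := fun h u => rfl
  have hV : Nat.card (Additive M) = Nat.card M := rfl
  -- conjugation into the stabiliser
  have hGtr : ∀ ω : Ω, ∃ x : G, x • α = ω := fun ω => ⟨_, (hexN ω).choose_spec⟩
  have hTgt : Tgt (Additive M) (stabilizer G α) := by
    have hfaith : FaithfulSMul (stabilizer G α) (Additive M) := by
      refine ⟨fun {h h'} hh => ?_⟩
      have h1 : ∀ u : M, (h : G) * u * (h : G)⁻¹ = h' * u * (h' : G)⁻¹ := by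
        intro u
        have h2 := hh (Additive.ofMul u)
        have h3 := congrArg (fun z : Additive M => ((Additive.toMul z : M) : G)) h2
        exact h3
      have hα : (h : G) • α = α := h.2
      have hα' : (h' : G) • α = α := h'.2
      refine Subtype.ext ?_
      refine FaithfulSMul.eq_of_smul_eq_smul (α := Ω) fun ω => ?_
      obtain ⟨u, hu⟩ := hexN ω
      have h2 : (h : G) * u = (h' * u * (h' : G)⁻¹) * h := by rw [← h1]; group
      have h3 : (h' : G)⁻¹ • α = α := by rw [inv_smul_eq_iff, hα']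
      rw [← hu, ← mul_smul, h2]
      simp only [mul_smul]
      rw [hα, h3]
    by_cases hbot : stabilizer G α = ⊥
    · -- regular
      unfold Tgt
      have hs1 : Nat.card (stabilizer G α) = 1 := by rw [hbot]; exact Subgroup.card_bot
      have : Unique (stabilizer G α) := by
        have h2 : Subsingleton (stabilizer G α) := (Nat.card_eq_one_iff_unique.1 hs1).1
        exact ⟨⟨1⟩, fun x => Subsingleton.elim _ _⟩
      have : Fintype (stabilizer G α) := Fintype.ofFinite _
      rw [finsum_eq_sum_of_fintype, Fintype.sum_unique]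
      have h3 : fixc (Additive M) (default : stabilizer G α) = Nat.card Ω := by
        have h4 : (default : stabilizer G α) = 1 := Subsingleton.elim _ _
        rw [h4]
        unfold fixc
        rw [← c2, ← hV]
        exact Nat.card_congr ⟨fun x => x.1, fun x => ⟨x, one_smul _ x⟩, fun _ => rfl, fun _ => rfl⟩
      rw [h3, hs1, hV, c2]
      have hn : (4 : ℝ) ≤ Nat.card Ω := by exact_mod_cast hn4
      set s := Real.sqrt (Nat.card Ω) with hs
      have hsq : (Nat.card Ω : ℝ) = s ^ 2 := (Real.sq_sqrt (by linarith)).symm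
      have hs2 : 2 ≤ s := Real.le_sqrt_of_sq_le (by linarith)
      rw [hsq, Nat.cast_one, mul_one]
      have e1 : (1 : ℝ) - 1 / s ^ 2 = (2 * s ^ 2 - 2) / (2 * s ^ 2) := by
        field_simp
      rw [e1]
      refine div_le_div_of_nonneg_right ?_ (by positivity)
      nlinarith
    · refine hN p (Additive M) (stabilizer G α) hp ?_ ?_ ?_ ?_
      · intro x
        have h1 : (Additive.toMul x : M) ^ p = 1 := Subtype.ext (hexp _ (Additive.toMul x).2)
        exact congrArg Additive.ofMul h1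
      · intro U hU
        by_cases hU0 : U = ⊥
        · left; exact hU0
        right
        let U' : Subgroup G :=
          { carrier := {g | ∃ hg : g ∈ M, Additive.ofMul (⟨g, hg⟩ : M) ∈ U}
            one_mem' := ⟨M.one_mem, U.zero_mem⟩
            mul_mem' := by
              rintro a b ⟨ha, ha'⟩ ⟨hb, hb'⟩
              exact ⟨M.mul_mem ha hb, U.add_mem ha' hb'⟩
            inv_mem' := by
              rintro a ⟨ha, ha'⟩
              exact ⟨M.inv_mem ha, U.neg_mem ha'⟩ }
        have hU'n : U'.Normal := by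
          refine ⟨fun a ha g => ?_⟩
          obtain ⟨ha1, ha2⟩ := ha
          obtain ⟨x, hx⟩ := hexN (g • α)
          have hk : (x : G)⁻¹ * g ∈ stabilizer G α := by
            rw [mem_stabilizer_iff, mul_smul, ← hx, inv_smul_smul]
          have h1 := hU ⟨_, hk⟩ _ ha2
          have h2 : (x : G)⁻¹ * g * a * ((x : G)⁻¹ * g)⁻¹ ∈ M := hM.conj_mem a ha1 _
          have h3 : g * a * g⁻¹ = (x : G)⁻¹ * g * a * ((x : G)⁻¹ * g)⁻¹ := by
            have h4 : g * a * g⁻¹ ∈ M := hM.conj_mem a ha1 g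
            have h5 : (x : G)⁻¹ * g * a * ((x : G)⁻¹ * g)⁻¹ = (x : G)⁻¹ * (g * a * g⁻¹) * x := by group
            rw [h5, mul_assoc ((x : G)⁻¹) (g * a * g⁻¹) (x : G), hcomm _ h4 _ x.2, inv_mul_cancel_left]
          refine ⟨hM.conj_mem a ha1 g, ?_⟩
          have h6 : (⟨g * a * g⁻¹, hM.conj_mem a ha1 g⟩ : M) = ⟨(x : G)⁻¹ * g * a * ((x : G)⁻¹ * g)⁻¹, h2⟩ :=
            Subtype.ext h3
          rw [h6]
          exact h1
        have hU'ne : U' ≠ ⊥ := by
          intro h
          refine hU0 ((AddSubgroup.eq_bot_iff_forall _).2 fun x hx => ?_)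
          have h1 : ((Additive.toMul x : M) : G) ∈ U' := ⟨(Additive.toMul x).2, hx⟩
          rw [h, Subgroup.mem_bot] at h1
          have h2 : (Additive.toMul x : M) = 1 := Subtype.ext h1
          exact congrArg Additive.ofMul h2
        have htr' := transitive_of_normal hprim U' hU'ne
        rw [eq_top_iff]
        intro x _
        obtain ⟨y, hy⟩ := htr'.exists_smul_eq α (((Additive.toMul x : M) : G) • α)
        obtain ⟨hy1, hy2⟩ := y.2
        have hy' : (y : G) • α = ((Additive.toMul x : M) : G) • α := hy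
        have h1 : ((Additive.toMul x : M) : G)⁻¹ * (y : G) = 1 := by
          refine hreg _ (M.mul_mem (M.inv_mem (Additive.toMul x).2) hy1) ?_
          rw [mul_smul, hy', inv_smul_smul]
        rw [inv_mul_eq_one] at h1
        have h2 : (Additive.toMul x : M) = ⟨(y : G), hy1⟩ := Subtype.ext h1
        have h3 : x = Additive.ofMul (⟨(y : G), hy1⟩ : M) := congrArg Additive.ofMul h2
        rw [h3]
        exact hy2
      · rw [hV, c2]; exact hnN
      · -- an element with two fixed points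
        have hex : ∃ g : G, g ≠ 1 ∧ ∃ ω : Ω, g • ω = ω := by
          rw [Subgroup.eq_bot_iff_forall] at hbot
          push Not at hbot
          obtain ⟨x, hx, hx1⟩ := hbot
          exact ⟨x, hx1, α, hx⟩
        have h2 : ∃ g : G, g ≠ 1 ∧ 1 < Nat.card (fixedBy Ω g) := by
          by_contra hno
          push Not at hno
          exact hfrob ⟨hex, hno⟩
        obtain ⟨g, hg1, hg2⟩ := h2
        rw [Finite.one_lt_card_iff_nontrivial] at hg2
        obtain ⟨⟨ω₁, hω₁⟩, ⟨ω₂, hω₂⟩, hω⟩ := hg2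
        have hω' : ω₁ ≠ ω₂ := fun h => hω (Subtype.ext h)
        have hω₁' : g • ω₁ = ω₁ := hω₁
        have hω₂' : g • ω₂ = ω₂ := hω₂
        obtain ⟨x, hx⟩ := hGtr ω₁
        have hk : x⁻¹ * g * x ∈ stabilizer G α := by
          rw [mem_stabilizer_iff, mul_smul, mul_smul, hx, hω₁', ← hx, inv_smul_smul]
        refine ⟨⟨_, hk⟩, ?_, ?_⟩
        · intro h
          have h1 : x⁻¹ * g * x = 1 := congrArg Subtype.val h
          refine hg1 ?_
          have h2 : g = x * (x⁻¹ * g * x) * x⁻¹ := by group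
          rw [h2, h1, mul_one, mul_inv_cancel]
        · obtain ⟨u, hu⟩ := hexN (x⁻¹ • ω₂)
          have hu1 : u ≠ 1 := by
            intro h
            rw [h, Subgroup.coe_one, one_smul] at hu
            refine hω' ?_
            rw [← hx, hu, smul_inv_smul]
          have hfixu : (⟨x⁻¹ * g * x, hk⟩ : stabilizer G α) • (Additive.ofMul u : Additive M) = Additive.ofMul u := by
            have h1 : ((Additive.toMul ((⟨x⁻¹ * g * x, hk⟩ : stabilizer G α) • (Additive.ofMul u : Additive M)) : M) : G) =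
                u := by
              rw [hcs]
              show (x⁻¹ * g * x) * (u : G) * (x⁻¹ * g * x)⁻¹ = u
              have h2 : (u : G)⁻¹ * ((x⁻¹ * g * x) * (u : G) * (x⁻¹ * g * x)⁻¹) = 1 := by
                refine hreg _ (M.mul_mem (M.inv_mem u.2) (hM.conj_mem _ u.2 _)) ?_
                have h3 : (x⁻¹ * g * x)⁻¹ • α = α := by
                  rw [inv_smul_eq_iff]
                  exact (mem_stabilizer_iff.1 hk).symm
                rw [mul_smul, mul_smul, mul_smul, h3, hu, mul_smul, mul_smul, smul_inv_smul, hω₂', ← hu, inv_smul_smul]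
              rw [inv_mul_eq_one] at h2
              exact h2.symm
            exact congrArg Additive.ofMul (Subtype.ext h1)
          intro hone
          unfold fixc at hone
          rw [Nat.card_eq_one_iff_unique] at hone
          have h3 := hone.1.elim ⟨Additive.ofMul u, hfixu⟩ ⟨0, smul_zero _⟩
          have h4 : (Additive.ofMul u : Additive M) = 0 := congrArg Subtype.val h3
          exact hu1 (congrArg Additive.toMul h4)
  -- conclusion
  unfold Bd
  unfold Tgt at hTgt
  rw [c3, c1, c2]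
  rw [hV, c2] at hTgt
  push_cast
  have hn0 : (0 : ℝ) ≤ Nat.card Ω := by positivity
  calc (Real.sqrt (Nat.card Ω) + 1) / (2 * Nat.card Ω) * ((Nat.card Ω : ℝ) * (Nat.card (stabilizer G α) : ℝ))
      = (Nat.card Ω : ℝ) * ((Real.sqrt (Nat.card Ω) + 1) / (2 * Nat.card Ω) * (Nat.card (stabilizer G α) : ℝ)) := by ring
    _ ≤ _ := mul_le_mul_of_nonneg_left hTgt hn0

theorem log_bound {ε : ℝ} (hε : 0 < ε) : ∃ N : ℕ, ∀ n : ℕ, N ≤ n →
    (Real.sqrt n + 1) / (2 * n) ≤ ε / Real.log n := by
  obtain ⟨N0, hN0⟩ := exists_nat_gt ((4 / ε) ^ 4)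
  refine ⟨max N0 3, fun n hn => ?_⟩
  have hn3 : 3 ≤ n := le_trans (le_max_right _ _) hn
  have hn0 : ((4 / ε) ^ 4 : ℝ) < n := lt_of_lt_of_le hN0 (by exact_mod_cast le_trans (le_max_left _ _) hn)
  have hn3' : (3 : ℝ) ≤ n := by exact_mod_cast hn3
  have hlog : 0 < Real.log n := Real.log_pos (by linarith)
  set t : ℝ := (n : ℝ) ^ (1 / 4 : ℝ) with ht
  have ht0 : 0 ≤ t := Real.rpow_nonneg (by linarith) _
  have ht4 : t ^ 4 = n := by
    rw [ht, ← Real.rpow_natCast, ← Real.rpow_mul (by linarith)]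
    norm_num
  have hsq : Real.sqrt n = t ^ 2 := by
    rw [← ht4]
    rw [show t ^ 4 = (t ^ 2) ^ 2 by ring]
    exact Real.sqrt_sq (by positivity)
  have hl4 : Real.log n ≤ 4 * t := by
    have h1 := Real.log_le_rpow_div (x := (n : ℝ)) (ε := 1 / 4) (by linarith) (by norm_num)
    rw [← ht] at h1
    linarith
  have hte : 4 ≤ ε * t := by
    have h1 : 4 / ε ≤ t := by
      by_contra h
      push Not at h
      have h2 : t ^ 4 < (4 / ε) ^ 4 := pow_lt_pow_left₀ h ht0 (by norm_num)
      rw [ht4] at h2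
      linarith
    rw [div_le_iff₀ hε] at h1
    linarith
  have ht1 : 1 ≤ t := by
    by_contra h
    push Not at h
    have h2 : t ^ 4 < 1 := pow_lt_one₀ ht0 h (by norm_num)
    rw [ht4] at h2
    linarith
  rw [div_le_div_iff₀ (by linarith) hlog, hsq, ← ht4]
  have h1 : (t ^ 2 + 1) * Real.log ((t ^ 4 : ℝ)) ≤ (t ^ 2 + 1) * (4 * t) := by
    refine mul_le_mul_of_nonneg_left ?_ (by positivity)
    rw [ht4]; exact hl4
  have h2 : (t ^ 2 + 1) * (4 * t) ≤ 2 * t ^ 2 * (4 * t) := by
    refine mul_le_mul_of_nonneg_right ?_ (by positivity)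
    nlinarith
  have h3 : 2 * t ^ 2 * (4 * t) ≤ ε * (2 * t ^ 4) := by
    have h4 : (4 : ℝ) * (2 * t ^ 3) ≤ (ε * t) * (2 * t ^ 3) := mul_le_mul_of_nonneg_right hte (by positivity)
    nlinarith
  linarith

/-- **S5731 from its affine part and S5734** -/
theorem top (hA : AffHyp.{u, u}) (h34 : ∃ ε : ℝ, 0 < ε ∧ ∀ (G : Type u) (Ω : Type v) [Group G] [Finite G]
      [MulAction G Ω] [FaithfulSMul G Ω] [Fintype Ω],
      MulAction.IsPreprimitive G Ω → (∀ N : Subgroup G, N.Normal → IsMulCommutative N → N = ⊥) →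
      2 ≤ Fintype.card Ω →
      ε / Real.log (Fintype.card Ω) * (Nat.card G : ℝ) ≤ Nat.card {g : G // ∀ ω : Ω, g • ω ≠ ω}) :
    ∃ N : ℕ, ∀ (G : Type u) (Ω : Type v) [Group G] [Finite G] [MulAction G Ω] [FaithfulSMul G Ω] [Fintype Ω],
      MulAction.IsPretransitive G Ω → N ≤ Fintype.card Ω →
      (MulAction.IsPreprimitive G Ω ∧ (MulAction.IsPretransitive G Ω ∧ (∃ g : G, g ≠ 1 ∧ ∃ ω : Ω, g • ω = ω) ∧
        ∀ g : G, g ≠ 1 → Nat.card (MulAction.fixedBy Ω g) ≤ 1)) ∨
      (Real.sqrt (Fintype.card Ω) + 1) / (2 * Fintype.card Ω) * (Nat.card G : ℝ) ≤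
        Nat.card {g : G // ∀ ω : Ω, g • ω ≠ ω} := by
  obtain ⟨N1, hN1⟩ := bd_of_affine.{u, v} hA
  obtain ⟨ε, hε, hprim⟩ := h34
  obtain ⟨N2, hN2⟩ := log_bound hε
  refine ⟨max (max N1 N2) 2, fun G Ω _ _ _ _ _ htr hcard => ?_⟩
  have c1 : N1 ≤ Fintype.card Ω := le_trans (le_trans (le_max_left _ _) (le_max_left _ _)) hcard
  have c2 : N2 ≤ Fintype.card Ω := le_trans (le_trans (le_max_right _ _) (le_max_left _ _)) hcard
  have c3 : 2 ≤ Fintype.card Ω := le_trans (le_max_right _ _) hcard
  have : Fintype G := Fintype.ofFinite G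
  by_cases hp : MulAction.IsPreprimitive G Ω
  · by_cases hab : ∃ M : Subgroup G, M.Normal ∧ IsMulCommutative M ∧ M ≠ ⊥
    · by_cases hfrob : ((∃ g : G, g ≠ 1 ∧ ∃ ω : Ω, g • ω = ω) ∧ ∀ g : G, g ≠ 1 → Nat.card (fixedBy Ω g) ≤ 1)
      · exact Or.inl ⟨hp, htr, hfrob.1, hfrob.2⟩
      · right
        have h1 := hN1 G Ω hp hab (by rw [Nat.card_eq_fintype_card]; exact c1) hfrob
        unfold Bd at h1
        rw [Nat.card_eq_fintype_card (α := Ω)] at h1
        exact h1
    · right
      push Not at hab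
      have h1 := hprim G Ω hp (fun N hN hc => hab N hN hc) c3
      refine le_trans (mul_le_mul_of_nonneg_right (hN2 _ c2) (by positivity)) h1
  · right
    have h1 : ∃ B : Set Ω, IsBlock G B ∧ ¬ IsTrivialBlock B := by
      by_contra hno
      push Not at hno
      exact hp { htr with isTrivialBlock_of_isBlock := fun {B} hB => hno B hB }
    obtain ⟨B, hB, hB1⟩ := h1
    have h2 : B.Nontrivial ∧ B ≠ Set.univ := by
      unfold IsTrivialBlock at hB1
      push Not at hB1
      exact hB1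
    have h3 := bd_of_block (G := G) (Ω := Ω) htr hB h2.1 h2.2
    unfold Bd at h3
    rw [Nat.card_eq_fintype_card (α := Ω)] at h3
    exact h3

end Cfsg.Agent.H692.Dr
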