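import Cfsg.Agent.H192.Af.Fin
import Cfsg.Agent.H570.Bn.Main
import Cfsg.Agent.H570.Bn.Lp
import Cfsg.Agent.H902.Af.Crit

/-!
# S5731: the affine hypothesis of `H692.Dr.top` from the names of the simple groups
-/

set_option autoImplicit false

namespace Cfsg.Agent.H692.Dr

universe u v

theorem crit : Cfsg.Agent.H570.Bn.Main.Crit.{u, v} := by
  intro V _ _ H _ _ _ w hw h
  exact Cfsg.Agent.H902.Af.tgt_of_rnk' hw h

/-- the Lie type case -/
theorem bnCase : Cfsg.Agent.H192.Af.BNCase.{u, v} Cfsg.Agent.H84.AF.LP.{v} :=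
  Cfsg.Agent.H570.Bn.Main.bnCase_of crit fun _ _ _ _ _ hp _ ⟨_, hc, hch, hr⟩ =>
    Cfsg.Agent.H570.Bn.Lp.hasSplit_of_real hp hc hch hr

/-- **the affine case, from the names of the simple groups** -/
theorem affHyp_of_name
    (hname : ∀ (T : Type v) [Group T] [Finite T] [IsSimpleGroup T], ¬ IsMulCommutative T →
      ∃ g, Cfsg.Agent.H436.IsNamed g T) : AffHyp.{u, v} :=
  Cfsg.Agent.H192.Af.affHyp hname bnCase

end Cfsg.Agent.H692.Dr
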